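import Cfsg.Agent.H173.SK.TitsAbs
import Cfsg.Agent.H690.Spor.Tits
import Cfsg.Agent.H270.NS.Tits
import Cfsg.Agent.TitsK.PairInst

/-!
# S3010 (Sidki pairs): the row Tits (helper173)

The involutions of the class of `z` commute with an element of order 5 (T2); the other class contains the involution of
`13 : 6`, which inverts an element of order 13 with centralizer of order 13 (T0).
-/

set_option autoImplicit false

universe u v w

open Subgroup Cfsg

namespace Cfsg.Agent.H173.SK.Tits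

open Cfsg.Agent.H282.SK Cfsg.Agent.H58.Rec Cfsg.Agent.H455.Isolated

/-- the two classes of involutions -/
def Cls (X : Type v) [Group X] : Prop :=
  ∃ z d : X, (∀ a : X, a * a = 1 → a ≠ 1 → IsConj a z ∨ IsConj a d) ∧
    (∃ n, Nat.card (centralizer ({z} : Set X)) ∣ 2 ^ n * 5) ∧ ∃ x : X, orderOf x = 5 ∧ z * x = x * z

theorem card_cent_conj {X : Type v} {Y : Type w} [Group X] [Group Y] (e : X ≃* Y) (x : X) :
    Nat.card (centralizer ({e x} : Set Y)) = Nat.card (centralizer ({x} : Set X)) := by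
  refine Nat.card_congr (Equiv.subtypeEquiv e.symm.toEquiv fun g => ?_)
  rw [mem_centralizer_singleton_iff, mem_centralizer_singleton_iff]
  show g * e x = e x * g ↔ e.symm g * x = x * e.symm g
  rw [← e.injective.eq_iff (a := e.symm g * x), map_mul, map_mul, e.apply_symm_apply]

theorem Cls.congr {X : Type v} {Y : Type w} [Group X] [Group Y] (h : Cls X) (e : X ≃* Y) : Cls Y := by
  obtain ⟨z, d, h1, ⟨n, h2⟩, x, hx, hzx⟩ := h
  refine ⟨e z, e d, fun a ha ha1 => ?_, ⟨n, ?_⟩, e x, ?_, ?_⟩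
  · have key : ∀ b : X, IsConj (e.symm a) b → IsConj a (e b) := by
      intro b hb
      obtain ⟨c, hc⟩ := isConj_iff.1 hb
      refine isConj_iff.2 ⟨e c, ?_⟩
      rw [← hc, map_mul, map_mul, map_inv, e.apply_symm_apply]
    rcases h1 (e.symm a) (by rw [← map_mul, ha, map_one]) (fun h => ha1 (e.symm.injective (by rw [h, map_one]))) with h | h
    · exact Or.inl (key _ h)
    · exact Or.inr (key _ h)
  · rw [card_cent_conj]; exact h2
  · rw [MulEquiv.orderOf_eq, hx]
  · rw [← map_mul, hzx, map_mul]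

/-- the row for a group with the facts -/
theorem false_of {G : Type u} [Group G] [Finite G] {V K : Subgroup G} (h : Cx V K) (hcard : Nat.card G = 17971200)
    (c50 : ∀ y : G, orderOf y = 5 → Nat.card (centralizer ({y} : Set G)) = 50)
    (h10 : ∀ g : G, 5 ∣ orderOf g → orderOf g ∣ 10) (hi : Isolated G 13) (hcl : Cls G) : False := by
  obtain ⟨z, d, hzd, ⟨n, hn⟩, x, hx, hzx⟩ := hcl
  obtain ⟨i, a, s, hi2, hi1, hoa, hia, hos, hsi⟩ := exists_six hcard
    (hasFrob_of_isolated (N := 17971200) (e := 6) (by norm_num) hcard hi (by norm_num) (by norm_num) (by norm_num)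
    (by decide +kernel))
  have hcz : ∀ {b : G}, IsConj b z → Nat.card (centralizer ({b} : Set G)) ∣ 2 ^ n * 5 := by
    intro b hb
    obtain ⟨c, hc⟩ := isConj_iff.1 hb
    have h1 := card_cent_conj (MulAut.conj c) b
    rw [MulAut.conj_apply, hc] at h1
    rw [← h1]
    exact hn
  -- `i` is conjugate to `d`
  have hid : IsConj i d := by
    rcases hzd i hi2 hi1 with h1 | h1
    · exfalso
      have h2 := orderOf_dvd_natCard (⟨s, mem_centralizer_singleton_iff.2 hsi⟩ : centralizer ({i} : Set G))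
      rw [orderOf_mk, hos] at h2
      have h3 := h2.trans (hcz h1)
      rcases (Nat.Prime.dvd_mul Nat.prime_three).1 h3 with h4 | h4
      · have h5 := Nat.prime_three.dvd_of_dvd_pow h4
        norm_num at h5
      · norm_num at h4
    · exact h1
  obtain ⟨v, hv, hv1⟩ : ∃ v ∈ V, v ≠ 1 := by
    by_contra hcon
    push Not at hcon
    exact h.V_ne_bot ((Subgroup.eq_bot_iff_forall V).2 hcon)
  rcases hzd v (h.sq hv) hv1 with h1 | h1
  · -- the class of `z`
    have h2 := hcz h1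
    obtain ⟨c, hc⟩ := isConj_iff.1 h1
    refine not_five h c50 h10 hv hv1 (x := c⁻¹ * x * c) ?_ ?_ ?_
    · have e : c⁻¹ * x * c = MulAut.conj c⁻¹ x := by rw [MulAut.conj_apply, inv_inv]
      rw [e, MulEquiv.orderOf_eq, hx]
    · have e : v = c⁻¹ * z * c := by rw [← hc]; group
      rw [e]
      calc c⁻¹ * z * c * (c⁻¹ * x * c) = c⁻¹ * (z * x) * c := by group
        _ = c⁻¹ * (x * z) * c := by rw [hzx]
        _ = c⁻¹ * x * c * (c⁻¹ * z * c) := by group
    · intro h25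
      have h3 := h25.trans h2
      have hcop : Nat.Coprime 25 (2 ^ n) := by
        rw [show (25 : ℕ) = 5 ^ 2 by norm_num]
        exact Nat.Coprime.pow 2 n (by norm_num)
      have h4 := hcop.dvd_of_dvd_mul_left h3
      norm_num at h4
  · -- the class of `d`
    obtain ⟨g, hg⟩ := isConj_iff.1 (hid.trans h1.symm)
    have hoa' : orderOf (g * a * g⁻¹) = 13 := by
      rw [← MulAut.conj_apply, MulEquiv.orderOf_eq, hoa]
    obtain ⟨w, hw, hw1, hwa⟩ := h.t0 hv (x := g * a * g⁻¹) (by rw [hoa']; decide) (by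
      rw [← hg]
      calc g * i * g⁻¹ * (g * a * g⁻¹) * (g * i * g⁻¹)⁻¹ = g * (i * a * i⁻¹) * g⁻¹ := by group
        _ = (g * a * g⁻¹)⁻¹ := by rw [hia]; group)
    apply hw1
    refine eq_one_of_commute' hi (by norm_num) hoa' hwa.symm ?_
    intro h13
    have h2 : orderOf w ∣ 2 := orderOf_dvd_of_pow_eq_one (by rw [pow_two, h.sq hw])
    have h3 := h13.trans h2
    norm_num at h3

section conc

open Cfsg.Agent.TitsK Cfsg.Agent.ChevalleyStructure.TwF4.Tables
open Cfsg.Agent.FourTwo.Base hiding bar bar_lt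
open Cfsg.Agent.FourTwo.BN Cfsg.Agent.FourTwo.Comm Cfsg.Agent.FourTwo.Classes

theorem cls_abs {L : Type v} [Group L] [Finite L] (D : TData L) {x : L} (hxT : x ∈ D.T) (hx1 : x ≠ 1) (hx5 : x ^ 5 = 1)
    (hxz : x * D.z * x⁻¹ = D.z)
    (hz : ∀ R : Subgroup L, R ≤ D.H → (∀ g ∈ R, g * D.z * g⁻¹ = D.z) → ∃ n, Nat.card ↥R ∣ 2 ^ n * 5) : Cls ↥D.T := by
  have hzT : D.z ∈ D.T := D.V_le_T D.z_mem_V
  refine ⟨⟨D.z, hzT⟩, ⟨D.d, D.d_mem_T⟩, ?_, ?_, ⟨x, hxT⟩, ?_, ?_⟩
  · intro a ha ha1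
    rcases D.invol_cases a.2 (congrArg Subtype.val ha) (fun h => ha1 (Subtype.ext h)) with ⟨t, ht, h⟩ | ⟨t, ht, h⟩
    · exact Or.inl (isConj_iff.2 ⟨⟨t, ht⟩, Subtype.ext h⟩)
    · exact Or.inr (isConj_iff.2 ⟨⟨t, ht⟩, Subtype.ext h⟩)
  · obtain ⟨n, hn⟩ := hz ((centralizer ({(⟨D.z, hzT⟩ : ↥D.T)} : Set ↥D.T)).map D.T.subtype)
      ((map_subtype_le _).trans D.T_le) (by
        rintro _ ⟨g, hg, rfl⟩
        have h1 := congrArg Subtype.val (mem_centralizer_singleton_iff.1 hg)
        exact mul_inv_eq_iff_eq_mul.2 h1)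
    rw [card_map_of_injective D.T.subtype_injective] at hn
    exact ⟨n, hn⟩
  · have hf : Fact (Nat.Prime 5) := ⟨by norm_num⟩
    rw [orderOf_mk]
    exact orderOf_eq_prime hx5 hx1
  · exact Subtype.ext (mul_inv_eq_iff_eq_mul.1 hxz).symm

theorem cls_TT : Cls ↥tdata.T :=
  cls_abs tdata xf_mem_TT xf_ne xf_pow5 (z_conj_Pz xf_mem_Pz) (fun _ hR hz => H270.NS.Tits.card_z hR hz)

end conc

/-- **the row Tits** -/
theorem dead : DeadS.{u} (fun K _ => Cfsg.Lie.IsoTits K) := by
  intro G _ _ V K h hK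
  have hK1 : K = ⊤ := top_of_invInner h (H246.TitsInner.inner_iso hK)
  obtain ⟨e0⟩ := hK
  let e : G ≃* Cfsg.Lie.TitsGroup := (Subgroup.topEquiv.symm.trans (MulEquiv.subgroupCongr hK1.symm)).trans e0
  have hG : Cfsg.Lie.IsoTits G := ⟨e⟩
  have O := CpAutTits.Row.out hG
  have F := H369.Ti.Facts.fs
  obtain ⟨f⟩ := Cfsg.Agent.TitsK.nonempty_equiv hG
  refine false_of h (O.card.trans (by norm_num)) O.cent (fun g hg => ?_) (F.iso.of_injective e.toMonoidHom e.injective)
    (cls_TT.congr f.symm)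
  have h1 := F.five (e g) (by rwa [MulEquiv.orderOf_eq])
  rwa [MulEquiv.orderOf_eq] at h1

end Cfsg.Agent.H173.SK.Tits
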