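import Cfsg.Agent.H282.SK.Tools

/-!
# S3010 (Sidki pairs): transport to a concrete group (helper173)

* `Cx.top_of_inner` : all automorphisms of `K` inner => `K = ⊤`;
* `Cx.kill` : `e : G ≃* H`, `c ∈ H` inverts `x` odd, `v ∈ V` with `e v` conjugate to `c`: some `w ∈ V#` has a conjugate
  (of `e w`) commuting with `x`.
-/

set_option autoImplicit false

universe u v

open Subgroup Cfsg

namespace Cfsg.Agent.H173.SK

open Cfsg.Agent.H282.SK

variable {G : Type u} [Group G] [Finite G] {V K : Subgroup G}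

/-- all automorphisms of `K` inner: `G = K` -/
theorem top_of_inner (h : Cx V K) (inn : ∀ α : MulAut K, ∃ k : K, α = MulAut.conj k) : K = ⊤ := by
  have := h.norm
  rw [eq_top_iff]
  intro g _
  obtain ⟨k, hk⟩ := inn (MulAut.conjNormal g)
  have h1 : (k : G)⁻¹ * g = 1 := by
    apply h.eq_one_of_comm
    intro y hy
    have h2 := congrArg (fun ψ : MulAut K => ((ψ ⟨y, hy⟩ : K) : G)) hk
    simp only [MulAut.conjNormal_apply, MulAut.conj_apply] at h2
    have h3 : g * y * g⁻¹ = k * y * (k : G)⁻¹ := h2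
    calc (k : G)⁻¹ * g * y = (k : G)⁻¹ * (g * y * g⁻¹) * g := by group
      _ = (k : G)⁻¹ * (k * y * (k : G)⁻¹) * g := by rw [h3]
      _ = y * ((k : G)⁻¹ * g) := by group
  have h2 : g = k := by
    calc g = k * ((k : G)⁻¹ * g) := by group
      _ = k := by rw [h1, mul_one]
  rw [h2]
  exact k.2

/-- the same with an isomorphism `K ≃* H` -/
theorem exists_equiv (h : Cx V K) {H : Type v} [Group H] (e : K ≃* H) (inn : ∀ α : MulAut H, ∃ k : H, α = MulAut.conj k) :
    Nonempty (G ≃* H) := by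
  have h1 : K = ⊤ := by
    apply top_of_inner h
    intro α
    obtain ⟨k, hk⟩ := inn (e.symm.trans (α.trans e))
    refine ⟨e.symm k, ?_⟩
    apply MulEquiv.ext
    intro y
    have h2 : e (α (e.symm (e y))) = k * e y * k⁻¹ := congrArg (fun t : MulAut H => t (e y)) hk
    rw [e.symm_apply_apply] at h2
    rw [MulAut.conj_apply]
    apply e.injective
    rw [h2, map_mul, map_mul, map_inv, e.apply_symm_apply]
  exact ⟨(Subgroup.topEquiv.symm.trans (MulEquiv.subgroupCongr h1.symm)).trans e⟩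

/-- (T0) in a concrete group -/
theorem kill (h : Cx V K) {H : Type v} [Group H] (e : G ≃* H) {c x : H} (hx : Odd (orderOf x))
    (hi : c * x * c⁻¹ = x⁻¹) {v : G} (hv : v ∈ V) (hc : IsConj c (e v)) :
    ∃ w ∈ V, w ≠ 1 ∧ ∃ g : H, Commute (g⁻¹ * e w * g) x := by
  obtain ⟨g, hg⟩ := isConj_iff.1 hc
  have h1 : orderOf (e.symm (g * x * g⁻¹)) = orderOf x := by
    rw [MulEquiv.orderOf_eq]
    exact MulEquiv.orderOf_eq (MulAut.conj g) x
  obtain ⟨w, hw, hw1, hwx⟩ := h.t0 hv (x := e.symm (g * x * g⁻¹)) (by rw [h1]; exact hx) (by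
    apply e.injective
    rw [map_mul, map_mul, map_inv, map_inv, e.apply_symm_apply, ← hg]
    calc g * c * g⁻¹ * (g * x * g⁻¹) * (g * c * g⁻¹)⁻¹ = g * (c * x * c⁻¹) * g⁻¹ := by group
      _ = (g * x * g⁻¹)⁻¹ := by rw [hi]; group)
  refine ⟨w, hw, hw1, g, ?_⟩
  have h2 : e w * (g * x * g⁻¹) = (g * x * g⁻¹) * e w := by
    have h3 := congrArg e hwx.eq
    rwa [map_mul e, map_mul e, e.apply_symm_apply] at h3
  calc (g⁻¹ * e w * g) * x = g⁻¹ * (e w * (g * x * g⁻¹)) * g := by group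
    _ = g⁻¹ * ((g * x * g⁻¹) * e w) * g := by rw [h2]
    _ = x * (g⁻¹ * e w * g) := by group

end Cfsg.Agent.H173.SK
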